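import Groth.Agent.QAGrp57.Core
import Groth.Agent.AlgGrp79.FiniteKernelHom
import Mathlib.AlgebraicGeometry.Morphisms.IsIso

/-!
A quasi-affine group scheme locally of finite type over a field is affine.
-/

set_option autoImplicit false
set_option backward.isDefEq.respectTransparency.types false
universe u

open CategoryTheory CategoryTheory.Limits MonoidalCategory CartesianMonoidalCategory MonObj AlgebraicGeometry
open scoped TensorProduct

noncomputable section

namespace Groth.Agent.QAGrp57

open AlgGrp79 AlgGrp79.ProdSections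

attribute [local instance] AlgGrp79.GLnDiag.gAlg

variable {K : Type u} [Field K]

theorem toSpecΓ_apply {X Y : Scheme.{u}} (f : X ⟶ Y) (x : X) :
    Y.toSpecΓ (f x) = Spec.map f.appTop (X.toSpecΓ x) := by
  rw [← Scheme.Hom.comp_apply, Scheme.toSpecΓ_naturality, Scheme.Hom.comp_apply]

theorem comap_ker_eq {A B C : Type u} [CommRing A] [CommRing B] [Field C] (g : A →+* B) (z : B →+* C) :
    PrimeSpectrum.comap g ⟨RingHom.ker z, RingHom.ker_isPrime z⟩ =
      ⟨RingHom.ker (z.comp g), RingHom.ker_isPrime _⟩ :=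
  PrimeSpectrum.ext (RingHom.comap_ker _ _)

/-- A quasi-affine group scheme locally of finite type over a field is affine. -/
theorem isAffine_of_isQuasiAffine (G : Over (Spec (CommRingCat.of K))) [GrpObj G] [LocallyOfFiniteType G.hom]
    [G.left.IsQuasiAffine] : IsAffine G.left := by
  suffices hsurj : Surjective G.left.toSpecΓ by
    have : IsIso G.left.toSpecΓ := (isIso_iff_isOpenImmersion_and_surjective _).2 ⟨inferInstance, hsurj⟩
    exact IsAffine.of_isIso G.left.toSpecΓ
  refine ⟨fun P => ?_⟩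
  let P' : PrimeSpectrum Γ(G.left, ⊤) := P
  let L := AlgebraicClosure P'.asIdeal.ResidueField
  let ψ : Γ(G.left, ⊤) →+* L :=
    (algebraMap P'.asIdeal.ResidueField L).comp (algebraMap Γ(G.left, ⊤) P'.asIdeal.ResidueField)
  have hker : RingHom.ker ψ = P'.asIdeal := by
    rw [RingHom.ker_comp_of_injective _ (algebraMap P'.asIdeal.ResidueField L).injective]
    exact Ideal.ker_algebraMap_residueField _
  let t : Spec (CommRingCat.of L) ⟶ Spec (CommRingCat.of K) :=
    Spec.map (CommRingCat.ofHom (ψ.comp (algebraMap K Γ(G.left, ⊤))))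
  let T : Over (Spec (CommRingCat.of K)) := Over.mk t
  have : IsAffine T.left := inferInstanceAs (IsAffine (Spec (CommRingCat.of L)))
  have hqc : QuasiCompact G.hom := (quasiCompact_iff_compactSpace _).2 inferInstance
  have hqs : QuasiSeparated G.hom := by
    have : QuasiSeparated (G.left.toSpecΓ ≫ Spec.map G.hom.appTop) := inferInstance
    rw [← Scheme.toSpecΓ_naturality] at this
    exact QuasiSeparated.of_comp G.hom (Spec (CommRingCat.of K)).toSpecΓ
  let GLf : Over (Spec (CommRingCat.of L)) := Red.bc t G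
  have : LocallyOfFiniteType GLf.hom := MorphismProperty.pullback_snd (P := @LocallyOfFiniteType) _ _ ‹_›
  let π : GLf.left ⟶ G.left := pullback.fst G.hom t
  have : IsAffineHom π := MorphismProperty.pullback_fst (P := @IsAffineHom) _ _ inferInstance
  have : GLf.left.IsQuasiAffine := Scheme.IsQuasiAffine.of_isAffineHom π
  let : Algebra K L := (ψ.comp (algebraMap K Γ(G.left, ⊤))).toAlgebra
  let ψ' : Γ(G.left, ⊤) →ₐ[K] L := { ψ with commutes' := fun r => rfl }
  let φ : Γ(T.left, ⊤) →ₐ[K] L :=
    { toRingHom := (Scheme.ΓSpecIso (CommRingCat.of L)).hom.hom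
      commutes' := fun r => by
        show ((Scheme.ΓSpecIso (CommRingCat.of K)).inv ≫ t.appTop ≫ (Scheme.ΓSpecIso (CommRingCat.of L)).hom) r = _
        rw [Scheme.ΓSpecIso_naturality]
        simp
        rfl }
  let E : Γ(G.left, ⊤) ⊗[K] Γ(T.left, ⊤) ≃ₐ[K] Γ((G ⊗ T).left, ⊤) :=
    AlgEquiv.ofBijective _ (ev_bijective_of_isAffine G T)
  let y0 : Γ((G ⊗ T).left, ⊤) →ₐ[K] L :=
    (Algebra.TensorProduct.lift ψ' φ (fun _ _ => Commute.all _ _)).comp E.symm.toAlgHom
  have hE : ∀ z, y0 (E z) = Algebra.TensorProduct.lift ψ' φ (fun _ _ => Commute.all _ _) z := fun z => by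
    simp [y0]
  have hfst : ∀ a, y0 (pb (fst G T) a) = ψ a := fun a => by
    have : E (a ⊗ₜ 1) = pb (fst G T) a := by
      show ev (fst G T) (snd G T) (a ⊗ₜ 1) = _
      rw [ev_tmul, map_one, _root_.mul_one]
    rw [← this, hE]
    simp [ψ']
  have hsnd : ∀ b, y0 (pb (snd G T) b) = φ b := fun b => by
    have : E (1 ⊗ₜ b) = pb (snd G T) b := by
      show ev (fst G T) (snd G T) (1 ⊗ₜ b) = _
      rw [ev_tmul, map_one, _root_.one_mul]
    rw [← this, hE]
    simp [ψ']
  let y : Γ(GLf.left, ⊤) →ₐ[L] L :=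
    { toRingHom := y0.toRingHom
      commutes' := fun r => by
        show y0 (pb (snd G T) ((Scheme.ΓSpecIso (CommRingCat.of L)).inv r)) = r
        rw [hsnd]
        exact congr($((Scheme.ΓSpecIso (CommRingCat.of L)).inv_hom_id) r) }
  obtain ⟨x, hx⟩ := mem_range_of_algHom y
  refine ⟨π x, ?_⟩
  have h1 := toSpecΓ_apply π x
  have h2 : y.toRingHom.comp π.appTop.hom = ψ := RingHom.ext fun a => hfst a
  refine h1.trans ?_
  rw [hx]
  refine (comap_ker_eq π.appTop.hom y.toRingHom).trans (PrimeSpectrum.ext ?_)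
  show RingHom.ker (y.toRingHom.comp π.appTop.hom) = P'.asIdeal
  rw [h2, hker]

end Groth.Agent.QAGrp57
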