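import Groth.Agent.QAGrp57.Affine
import Groth.Agent.AlgGrp79.AffineKernelHom
import Groth.Agent.SGA3a.GrpHomFinite
import Groth.Prelude.Def_Mor2

/-!
A quasi-affine homomorphism of group schemes locally of finite type over a field is affine.
-/

set_option autoImplicit false
set_option backward.isDefEq.respectTransparency.types false
universe u

open CategoryTheory CategoryTheory.Limits MonoidalCategory CartesianMonoidalCategory MonObj AlgebraicGeometry

noncomputable section

namespace Groth.Agent.QAGrp57

open SGA3a.GrpHomFinite SGA3a.TargetLocus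

variable {k : Type u} [Field k] {G H N : Over (Spec (CommRingCat.of k))} [GrpObj G] [GrpObj H]
  [LocallyOfFiniteType G.hom] [LocallyOfFiniteType H.hom] (u : G ⟶ H) [IsMonHom u] [QuasiCompact u.left]

/-- A quasi-compact homomorphism with affine kernel is affine. -/
theorem isAffineHom_of_kernel (i : N ⟶ G) (hker : AlgGrp.IsKernel i u) (hN : IsAffineHom N.hom) :
    IsAffineHom u.left := by
  obtain ⟨_, _⟩ := exists_grpObj_preNeutral u
  obtain ⟨i', hi'⟩ := exists_kernel_preNeutral u i hker
  have : LocallyOfFiniteType (preNeutral u).hom := inferInstanceAs (LocallyOfFiniteType (_ ≫ G.hom))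
  have := quasiCompact_preNeutral u
  have h := AlgGrp79.isAffineHom_hom_of_affine_kernel _ i' hi' hN
  rw [preNeutralι_comp] at h
  have : MorphismProperty.DescendsAlong (@IsAffineHom : MorphismProperty Scheme.{u}) (@Flat ⊓ @Surjective ⊓ @QuasiCompact) :=
    have := Unr55.isAffineHom.{u}
    MorphismProperty.DescendsAlong.of_le (Q := Unr55.fpqc.{u}) fun _ _ _ h => ⟨⟨h.1.2, h.1.1⟩, h.2⟩
  exact prop_of_neutral (P := @IsAffineHom) u (fun {X Y} f hX => inferInstance)
    (MorphismProperty.of_postcomp (W := @IsAffineHom) (W' := @IsSeparated) (u.left ∣_ neutral H) (neutral H).ι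
      inferInstance h)

omit [LocallyOfFiniteType G.hom] [LocallyOfFiniteType H.hom] [QuasiCompact u.left] in
/-- The kernel is a group scheme. -/
theorem exists_grpObj_ker : ∃ _ : GrpObj (ker u), IsMonHom (kerι u) := by
  have hK := isKernel_ker u
  have := AlgGrp79.mono_of_isKernel hK
  refine AlgGrp79.exists_grpObj_closed (kerι u) ?_ fun T k₁ k₂ => ?_
  · obtain ⟨n, hn⟩ := AlgGrp79.exists_ker_of_comp_one hK (η[G]) (by
      rw [IsMonHom.one_hom, ← Category.id_comp η[H], toUnit_unique (𝟙 _) (toUnit _)]; rfl)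
    exact ⟨n, hn⟩
  · refine AlgGrp79.exists_ker_of_comp_one hK _ ?_
    rw [MonObj.mul_comp, GrpObj.inv_comp, AlgGrp79.isKernel_comp_one hK, AlgGrp79.isKernel_comp_one hK, inv_one,
      _root_.one_mul]

omit [QuasiCompact u.left] in
/-- A quasi-affine homomorphism of group schemes locally of finite type over a field is affine. -/
theorem isAffineHom_of_isQuasiAffine (hu : Mor2.IsQuasiAffine u.left) : IsAffineHom u.left := by
  have := hu.1
  have : IsSeparated H.hom := AlgGrp79.isSeparated_grp H
  let e : Spec (CommRingCat.of k) ⟶ H.left := (η[H] : 𝟙_ (Over (Spec (CommRingCat.of k))) ⟶ H).left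
  have he : e ≫ H.hom = 𝟙 _ := Over.w η[H]
  have : IsClosedImmersion e := by
    have : IsClosedImmersion (e ≫ H.hom) := by rw [he]; infer_instance
    exact IsClosedImmersion.of_comp e H.hom
  obtain ⟨_, ⟨V, hV, rfl⟩, hxV, -⟩ :=
    H.left.isBasis_affineOpens.exists_subset_of_mem_open (Set.mem_univ (e default)) isOpen_univ
  let p : pullback u.left e ⟶ G.left := pullback.fst u.left e
  have hrange : Set.range p ⊆ (u.left ⁻¹ᵁ V).ι.opensRange := by
    rintro _ ⟨z, rfl⟩
    rw [Scheme.Opens.opensRange_ι]
    show u.left (p z) ∈ V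
    rw [← Scheme.Hom.comp_apply, pullback.condition, Scheme.Hom.comp_apply,
      Subsingleton.elim (α := ↥(Spec (CommRingCat.of k))) (pullback.snd u.left e z) default]
    exact SetLike.mem_coe.1 hxV
  let q : pullback u.left e ⟶ (u.left ⁻¹ᵁ V : Scheme.{u}) := IsOpenImmersion.lift (u.left ⁻¹ᵁ V).ι p hrange
  have hq : q ≫ (u.left ⁻¹ᵁ V).ι = p := IsOpenImmersion.lift_fac _ _ _
  have : IsClosedImmersion p := MorphismProperty.pullback_fst (P := @IsClosedImmersion) _ _ ‹_›
  have : IsClosedImmersion q := by
    have : IsClosedImmersion (q ≫ (u.left ⁻¹ᵁ V).ι) := by rw [hq]; infer_instance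
    exact IsClosedImmersion.of_comp q (u.left ⁻¹ᵁ V).ι
  have : ((u.left ⁻¹ᵁ V : Scheme.{u})).IsQuasiAffine := hu.2 V hV
  have : (ker u).left.IsQuasiAffine := Scheme.IsQuasiAffine.of_isAffineHom q
  obtain ⟨_, _⟩ := exists_grpObj_ker u
  have : LocallyOfFiniteType (ker u).hom := by
    have : LocallyOfFiniteType (p ≫ G.hom) := inferInstance
    rw [← Over.w (kerι u)]
    exact this
  have := isAffine_of_isQuasiAffine (ker u)
  exact isAffineHom_of_kernel u (kerι u) (isKernel_ker u) inferInstance

end Groth.Agent.QAGrp57
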