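import Groth.Agent.AlgGrp79.ProdSections
import Groth.Agent.Var76.ActTrans
import Mathlib.AlgebraicGeometry.QuasiAffine

/-!
A rational point of the affinisation of a quasi-affine group scheme over an algebraically closed field
lies in the group scheme.
-/

set_option autoImplicit false
set_option backward.isDefEq.respectTransparency.types false
universe u

open CategoryTheory CategoryTheory.Limits MonoidalCategory CartesianMonoidalCategory MonObj AlgebraicGeometry
open scoped TensorProduct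

noncomputable section

namespace Groth.Agent.QAGrp57

open AlgGrp79 AlgGrp79.ProdSections

attribute [local instance] AlgGrp79.GLnDiag.gAlg

variable {K : Type u} [Field K] {G : Over (Spec (CommRingCat.of K))}

/-- functions on the point are scalars -/
theorem exists_algebraMap_eq (b : Γ((𝟙_ (Over (Spec (CommRingCat.of K)))).left, ⊤)) :
    ∃ r : K, algebraMap K _ r = b := by
  refine ⟨(Scheme.ΓSpecIso (CommRingCat.of K)).hom b, ?_⟩
  show ((Scheme.ΓSpecIso (CommRingCat.of K)).hom ≫ (Scheme.ΓSpecIso (CommRingCat.of K)).inv ≫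
    (𝟙 (Spec (CommRingCat.of K)) : _ ⟶ _).appTop) b = b
  rw [Iso.hom_inv_id_assoc]
  simp

theorem pb_toUnit_comp {A P : Over (Spec (CommRingCat.of K))} (σ : 𝟙_ _ ⟶ A) (b : Γ(A.left, ⊤)) {r : K}
    (hr : algebraMap K _ r = pb σ b) : pb (toUnit P ≫ σ) b = algebraMap K _ r := by
  rw [pb_comp_apply, ← hr, AlgHom.commutes]

variable [GrpObj G]

theorem isIso_rtrans (σ : 𝟙_ _ ⟶ G) : IsIso (𝟙 G * (toUnit G ≫ σ)) := by
  refine ⟨⟨𝟙 G * (toUnit G ≫ σ⁻¹), ?_, ?_⟩⟩
  · rw [MonObj.comp_mul, Category.comp_id, ← Category.assoc, comp_toUnit, _root_.mul_assoc, ← MonObj.comp_mul,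
      _root_.mul_inv_cancel, MonObj.comp_one, _root_.mul_one]
  · rw [MonObj.comp_mul, Category.comp_id, ← Category.assoc, comp_toUnit, _root_.mul_assoc, ← MonObj.comp_mul,
      _root_.inv_mul_cancel, MonObj.comp_one, _root_.mul_one]

theorem pb_mul {P : Over (Spec (CommRingCat.of K))} (a b : P ⟶ G) (f : Γ(G.left, ⊤))
    (z : Γ(G.left, ⊤) ⊗[K] Γ(G.left, ⊤)) (hz : ev (fst G G) (snd G G) z = pb μ[G] f) :
    ev a b z = pb (a * b) f := by
  rw [Hom.mul_def, pb_comp_apply, ← hz, pb_ev_apply, lift_fst, lift_snd]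

/-- A rational point of `Spec Γ(G)` lies in `G`. -/
theorem mem_range_of_algHom [IsAlgClosed K] [LocallyOfFiniteType G.hom] [G.left.IsQuasiAffine]
    (y : Γ(G.left, ⊤) →ₐ[K] K) :
    (⟨RingHom.ker y.toRingHom, RingHom.ker_isPrime _⟩ : PrimeSpectrum Γ(G.left, ⊤)) ∈
      Set.range G.left.toSpecΓ := by
  by_contra hy
  have hqc : QuasiCompact G.hom := (quasiCompact_iff_compactSpace _).2 inferInstance
  have hqs : QuasiSeparated G.hom := by
    have : QuasiSeparated (G.left.toSpecΓ ≫ Spec.map G.hom.appTop) := inferInstance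
    rw [← Scheme.toSpecΓ_naturality] at this
    exact QuasiSeparated.of_comp G.hom (Spec (CommRingCat.of K)).toSpecΓ
  have : JacobsonSpace G.left := LocallyOfFiniteType.jacobsonSpace G.hom
  -- the functions cutting out the boundary
  let J : Set Γ(G.left, ⊤) := {f | (PrimeSpectrum.basicOpen f : Set (PrimeSpectrum Γ(G.left, ⊤))) ⊆ Set.range G.left.toSpecΓ}
  have hJy : ∀ f ∈ J, y f = 0 := fun f hf => by
    by_contra h
    exact hy (hf h)
  -- stable under right translation
  have hJρ : ∀ (σ : 𝟙_ _ ⟶ G), ∀ f ∈ J, pb (𝟙 G * (toUnit G ≫ σ)) f ∈ J := by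
    intro σ f hf q hq
    have := isIso_rtrans σ
    have : IsIso (𝟙 G * (toUnit G ≫ σ)).left := inferInstanceAs (IsIso ((Over.forget _).map (𝟙 G * (toUnit G ≫ σ))))
    have h : q ∈ Spec.map (𝟙 G * (toUnit G ≫ σ)).left.appTop ⁻¹ᵁ G.left.toSpecΓ.opensRange := hf hq
    rw [Scheme.preimage_opensRange_toSpecΓ] at h
    exact h
  have key : ∀ f ∈ J, pb η[G] f = 0 := by
    intro f hf
    obtain ⟨z, hz⟩ := (ev_bijective G G).2 (pb μ[G] f)
    let y' : Γ(G.left, ⊤) →ₐ[K] Γ(G.left, ⊤) := (Algebra.ofId K _).comp y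
    let F := Algebra.TensorProduct.lift y' (AlgHom.id K _) (fun _ _ => Commute.all _ _) z
    have hF : ∀ σ : 𝟙_ _ ⟶ G, pb σ F = 0 := by
      intro σ
      have h : (pb σ).comp (Algebra.TensorProduct.lift y' (AlgHom.id K _) (fun _ _ => Commute.all _ _)) =
          ((Algebra.ofId K _).comp y).comp (ev (𝟙 G) (toUnit G ≫ σ)) := by
        refine Algebra.TensorProduct.ext' fun a b => ?_
        obtain ⟨r, hr⟩ := exists_algebraMap_eq (pb σ b)
        simp [y', ev_tmul, pb_id, pb_toUnit_comp σ b hr, ← hr, Algebra.ofId_apply]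
      show pb σ (Algebra.TensorProduct.lift y' (AlgHom.id K _) (fun _ _ => Commute.all _ _) z) = 0
      rw [← AlgHom.comp_apply, h]
      simp only [AlgHom.coe_comp, Function.comp_apply]
      rw [pb_mul _ _ f z hz, hJy _ (hJρ σ f hf), map_zero]
    have hnil : IsNilpotent F := by
      rw [Scheme.isNilpotent_iff_basicOpen_eq_bot_of_isCompact (isCompact_univ (X := G.left))]
      by_contra hne
      obtain ⟨g, hgF, hg⟩ := nonempty_inter_closedPoints
        ((TopologicalSpace.Opens.ne_bot_iff_nonempty _).1 hne) (G.left.basicOpen F).2.isLocallyClosed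
      let σ := Var76.ActTrans.sec G g hg
      have h : σ.left (IsLocalRing.closedPoint K) ∈ G.left.basicOpen F := by
        rw [Var76.ActTrans.sec_apply]; exact hgF
      have h' : IsLocalRing.closedPoint K ∈ (Spec (CommRingCat.of K)).basicOpen (σ.left.appTop F) := by
        rw [← Scheme.preimage_basicOpen_top]; exact h
      rw [show σ.left.appTop F = 0 from hF σ, Scheme.basicOpen_zero] at h'
      exact h'
    let w : Γ(G.left, ⊤) →ₐ[K] K := y.comp (pb (𝟙 G)⁻¹)
    have h : w.comp (Algebra.TensorProduct.lift y' (AlgHom.id K _) (fun _ _ => Commute.all _ _)) =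
        y.comp (ev (𝟙 G) (𝟙 G)⁻¹) := by
      refine Algebra.TensorProduct.ext' fun a b => ?_
      simp [w, y', ev_tmul, pb_id, Algebra.ofId_apply]
    have h0 : w F = 0 := (hnil.map w).eq_zero
    have h1 : y (ev (𝟙 G) (𝟙 G)⁻¹ z) = 0 := by
      rw [← AlgHom.comp_apply, ← h]; exact h0
    obtain ⟨r, hr⟩ := exists_algebraMap_eq (pb η[G] f)
    rw [pb_mul _ _ f z hz, _root_.mul_inv_cancel, Hom.one_def, pb_toUnit_comp _ _ hr, AlgHom.commutes] at h1
    rw [← hr, show r = 0 from h1, map_zero]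
  -- a function of `J` not vanishing at the unit
  let e : G.left := η[G].left (IsLocalRing.closedPoint K)
  obtain ⟨_, ⟨_, ⟨f, rfl⟩, rfl⟩, hef, hfJ⟩ := (PrimeSpectrum.isBasis_basic_opens (R := Γ(G.left, ⊤))).exists_subset_of_mem_open
    (a := G.left.toSpecΓ e) (u := Set.range G.left.toSpecΓ) (Set.mem_range_self e) G.left.toSpecΓ.opensRange.2
  have hef' : e ∈ G.left.basicOpen f := by
    rw [← Scheme.toSpecΓ_preimage_basicOpen]; exact hef
  have h' : IsLocalRing.closedPoint K ∈ (Spec (CommRingCat.of K)).basicOpen (η[G].left.appTop f) := by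
    rw [← Scheme.preimage_basicOpen_top]; exact hef'
  rw [show η[G].left.appTop f = 0 from key f hfJ, Scheme.basicOpen_zero] at h'
  exact h'

end Groth.Agent.QAGrp57
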